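import Groth.Agent.Lefpen.H714.EulerConst
import Groth.Agent.Sga5.HcConst
import Groth.Agent.Etrest.ConstBasic
import Groth.Prelude.Def_Milnor

/-!
# The real-valued and the integer-valued mod `ℓ` Euler characteristics
-/

set_option autoImplicit false
universe u

open CategoryTheory AlgebraicGeometry Limits TopologicalSpace Opposite

namespace Groth.Agent.Lefpen.H108.EcEuler

open Groth.Agent.Lefpen.H714

theorem H_torsion (ℓ : ℕ) (Y : Scheme.{u}) (q : ℕ) (x : EtCoh.H Y (EtCoh.const Y (ZMod ℓ)) q) : ℓ • x = 0 :=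
  Sga5.HcConst.H_nsmul_eq_zero ℓ _ (Etrest.ConstBasic.killedBy_const Y (ZMod ℓ) ℓ (by simp)) q x

theorem card_H (ℓ : ℕ) [Fact ℓ.Prime] (Y : Scheme.{u}) (q : ℕ)
    [Finite (EtCoh.H Y (EtCoh.const Y (ZMod ℓ)) q)] :
    Nat.card (EtCoh.H Y (EtCoh.const Y (ZMod ℓ)) q) = ℓ ^ VanCyc.hdim ℓ Y q := by
  obtain ⟨r, -, hr⟩ := EulerConst.exists_basis ℓ (EtCoh.H Y (EtCoh.const Y (ZMod ℓ)) q)
    (H_torsion ℓ Y q)
  rw [VanCyc.hdim, hr, Nat.log_pow (Fact.out : ℓ.Prime).one_lt]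

theorem hdim_of_subsingleton (ℓ : ℕ) (Y : Scheme.{u}) (q : ℕ)
    [Subsingleton (EtCoh.H Y (EtCoh.const Y (ZMod ℓ)) q)] : VanCyc.hdim ℓ Y q = 0 := by
  rw [VanCyc.hdim, Nat.card_of_subsingleton (0 : EtCoh.H Y (EtCoh.const Y (ZMod ℓ)) q), Nat.log_one_right]

theorem euler_eq_of_le (ℓ : ℕ) (Y : Scheme.{u}) {N M : ℕ} (hNM : N ≤ M)
    (h : ∀ q, N < q → Subsingleton (EtCoh.H Y (EtCoh.const Y (ZMod ℓ)) q)) :
    VanCyc.euler ℓ Y M = VanCyc.euler ℓ Y N := by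
  rw [VanCyc.euler, VanCyc.euler]
  symm
  refine Finset.sum_subset (Finset.range_subset_range.2 (by omega)) fun q _ hq => ?_
  have : N < q := by
    rw [Finset.mem_range] at hq
    omega
  have := h q this
  rw [hdim_of_subsingleton]
  simp

/-- The comparison. -/
theorem ec_eq (ℓ : ℕ) [Fact ℓ.Prime] (Y : Scheme.{u}) (N : ℕ)
    (hfin : ∀ q, Finite (EtCoh.H Y (EtCoh.const Y (ZMod ℓ)) q))
    (hvan : ∀ q, N < q → Subsingleton (EtCoh.H Y (EtCoh.const Y (ZMod ℓ)) q)) :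
    EulerEt.ec ℓ Y = (VanCyc.euler ℓ Y N : ℝ) * Real.log ℓ := by
  rw [EulerEt.ec, EulerEt.e, EulerAlg.chi_eq_sum N hvan, VanCyc.euler]
  push_cast
  rw [Finset.sum_mul]
  refine Finset.sum_congr rfl fun q _ => ?_
  have := hfin q
  rw [EulerAlg.lg, card_H]
  push_cast
  rw [Real.log_pow]
  ring

end Groth.Agent.Lefpen.H108.EcEuler
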