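import Groth.Prelude.Def_LefPen
import Groth.Agent.CurvesB.CplMap

/-!
# Invariance of ordinary quadratic singularities under isomorphisms over the base field
-/

set_option autoImplicit false
universe u

open CategoryTheory AlgebraicGeometry

namespace Groth.Agent.Lefpen.H108.OrdIso

open LefPen IsLocalRing

variable {k : Type u} [Field k] {Y Y' : Scheme.{u}}

theorem stalkMap_toStalk (g : Y ⟶ Spec (CommRingCat.of k)) (g' : Y' ⟶ Spec (CommRingCat.of k)) (e : Y ⟶ Y')
    (he : e ≫ g' = g) (y : Y) (c : k) : (e.stalkMap y).hom (toStalk k g' (e y) c) = toStalk k g y c := by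
  subst he
  have h1 := e.germ_stalkMap ⊤ y trivial
  have h2 := congr($(h1).hom (Coh.toGlobal g' c))
  simp only [toStalk, RingHom.comp_apply]
  change (Y'.presheaf.germ ⊤ (e y) trivial ≫ e.stalkMap y).hom (Coh.toGlobal g' c) = _
  rw [h2]
  simp only [CommRingCat.hom_comp, RingHom.comp_apply, Coh.toGlobal, Scheme.Hom.comp_appTop]
  rfl

theorem isOrdQuadSing_of_iso (m : ℕ) (g : Y ⟶ Spec (CommRingCat.of k)) (g' : Y' ⟶ Spec (CommRingCat.of k))
    (e : Y ≅ Y') (he : e.hom ≫ g' = g) (y : Y) (h : IsOrdQuadSing k m g' (e.hom y)) : IsOrdQuadSing k m g y := by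
  obtain ⟨hcl, Q, Q₂, f, hf, hQ, hQ₂, hnd⟩ := h
  refine ⟨?_, Q, Q₂, ?_⟩
  · have h1 := hcl.preimage e.hom.continuous
    have h2 : e.hom ⁻¹' {e.hom y} = {y} := by
      ext z
      simp only [Set.mem_preimage, Set.mem_singleton_iff]
      exact ⟨fun h => e.hom.homeomorph.injective h, fun h => h ▸ rfl⟩
    rwa [h2] at h1
  · let φ : Y'.presheaf.stalk (e.hom y) ≃+* Y.presheaf.stalk y :=
      (asIso (e.hom.stalkMap y)).commRingCatIsoToRingEquiv
    let ψ := Groth.Agent.CurvesB.CplMap.congrLocal φ.symm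
    refine ⟨ψ.trans f, fun c => ?_, hQ, hQ₂, hnd⟩
    rw [← hf c, RingEquiv.trans_apply]
    congr 1
    rw [Groth.Agent.CurvesB.CplMap.congrLocal_algebraMap]
    congr 1
    rw [RingEquiv.symm_apply_eq]
    exact (stalkMap_toStalk g g' e.hom he y c).symm

end Groth.Agent.Lefpen.H108.OrdIso
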