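import Groth.Agent.Lefpen.H108.MilnorPt
import Groth.Agent.Lefpen.H108.OrdIso

/-!
# The critical points of the projection of a Lefschetz pencil

`exists_crit`: for a Lefschetz pencil `(F, G)` with `G` transversal and its total space `(b, ρ)`, the points where `ρ` is
not smooth form a finite set, in bijection with the `c` such that `F + c G` is not transversal, and the Milnor number of `ρ` at
each of them is one (if `2` is invertible in `k` or the dimension is even).
-/

set_option autoImplicit false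
universe u

open CategoryTheory AlgebraicGeometry Limits TopologicalSpace Opposite

namespace Groth.Agent.Lefpen.H108.Crit

open LefPen IsLocalRing Groth.Agent.Lefpen.H723.P1Pt Groth.Agent.Lefpen.H723.PencilGeom
open Groth.Agent.Lefpen.H723.PencilSmooth Groth.Agent.Lefpen.H705.ChartPoly Groth.Agent.Sga5

variable {k : Type u} [Field k] {r n d : ℕ} {X X' : Scheme.{u}} {i : X ⟶ CohB1.ProjSpace r k}
  {F G : Form r k d} {b : X' ⟶ X} {ρ : X' ⟶ CohB1.ProjSpace 1 k}

theorem pt_injective (j : Fin (1 + 1)) {c c' : k} (a a' : Spec (CommRingCat.of k)) (h : pt j c a = pt j c' a') :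
    c = c' := by
  have h1 : Spec.map (CommRingCat.ofHom (MvPolynomial.eval (fun _ : Fin 1 => c))) a =
      Spec.map (CommRingCat.ofHom (MvPolynomial.eval (fun _ : Fin 1 => c'))) a' := by
    apply (ProjSmooth.chart 1 k j).injective
    rw [← Scheme.Hom.comp_apply, ← Scheme.Hom.comp_apply]
    exact h
  have h2 : (MvPolynomial.X 0 - MvPolynomial.C c : MvPolynomial (Fin 1) k) ∈
      (PrimeSpectrum.asIdeal (Spec.map (CommRingCat.ofHom (MvPolynomial.eval (fun _ : Fin 1 => c))) a) :
        Ideal (MvPolynomial (Fin 1) k)) := by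
    change MvPolynomial.eval (fun _ : Fin 1 => c) (MvPolynomial.X 0 - MvPolynomial.C c) ∈ PrimeSpectrum.asIdeal a
    rw [map_sub, MvPolynomial.eval_X, MvPolynomial.eval_C, sub_self]
    exact Ideal.zero_mem _
  rw [h1] at h2
  have h3 : MvPolynomial.eval (fun _ : Fin 1 => c') (MvPolynomial.X 0 - MvPolynomial.C c) ∈
      PrimeSpectrum.asIdeal a' := h2
  rw [map_sub, MvPolynomial.eval_X, MvPolynomial.eval_C] at h3
  by_contra hne
  have h4 : IsUnit (c' - c) := IsUnit.mk0 _ (sub_ne_zero.2 (Ne.symm hne))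
  exact (PrimeSpectrum.isPrime a').ne_top (Ideal.eq_top_of_isUnit_mem _ h3 h4)

theorem disjoint_support (j : Fin (1 + 1)) {c c' : k} (p : CohB1.ProjSpace 1 k)
    (h : p ∈ (hypIdeal (lin j c)).support) (h' : p ∈ (hypIdeal (lin j c')).support) : c = c' := by
  have h1 : p ∈ Set.range (pt j c) := by rw [range_pt]; exact h
  have h2 : p ∈ Set.range (pt j c') := by rw [range_pt]; exact h'
  obtain ⟨a, rfl⟩ := h1
  obtain ⟨a', h3⟩ := h2
  exact pt_injective j a a' h3.symm

theorem secIdeal_singleton {Y : Scheme.{u}} (f : Y ⟶ CohB1.ProjSpace r k) (H : Form r k d) :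
    secIdeal f ({H} : Set (Form r k d)) = (hypIdeal H).comap f := by
  rw [secIdeal, iSup_singleton]

/-- The fibre over `t = c` as a section. -/
theorem exists_iso (hρ : LefMon.IsPencilFibration i F G b ρ) (c : k) :
    ∃ e : Sec ρ ({lin 0 c} : Set (Form 1 k 1)) ≅ Sec i {F + c • G},
      e.hom ≫ secι i {F + c • G} = secι ρ ({lin 0 c} : Set (Form 1 k 1)) ≫ b := by
  have h := hρ.2.2.1 c
  rw [line_eq, ← secIdeal_singleton] at h
  exact h

theorem toSpec_eq (hρ : LefMon.IsPencilFibration i F G b ρ) (c : k)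
    (e : Sec ρ ({lin 0 c} : Set (Form 1 k 1)) ≅ Sec i {F + c • G})
    (he : e.hom ≫ secι i {F + c • G} = secι ρ ({lin 0 c} : Set (Form 1 k 1)) ≫ b) :
    e.hom ≫ secToSpec i {F + c • G} = secToSpec ρ ({lin 0 c} : Set (Form 1 k 1)) := by
  rw [secToSpec, secToSpec, hρ.2.1, ← Category.assoc, he, Category.assoc]

theorem isPullback_sec (ρ : X' ⟶ CohB1.ProjSpace 1 k) (c : k) :
    IsPullback (secι ρ ({lin 0 c} : Set (Form 1 k 1))) (secToSpec ρ ({lin 0 c} : Set (Form 1 k 1))) ρ (pt 0 c) := by
  have h := isPullback_pt 0 c ρ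
  rw [← secIdeal_singleton] at h
  exact h

variable [IsAlgClosed k]

/-- The critical points of a Lefschetz pencil. -/
theorem exists_crit (m : ℕ) [IsClosedImmersion i] [IrreducibleSpace X]
    [SmoothOfRelativeDimension (m + 1) (i ≫ CohB1.ProjSpace.toSpec r k)]
    (hpar : Even (m + 1) ∨ ringChar k ≠ 2)
    (hL : IsLefschetzPencil k (m + 1) i d F G) (hG : Transversal k (m + 1) 1 (secToSpec i {G}))
    (hρ : LefMon.IsPencilFibration i F G b ρ)
    [LocallyOfFinitePresentation ρ]
    [SmoothOfRelativeDimension (m + 1) (ρ ≫ CohB1.ProjSpace.toSpec 1 k)] :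
    ∃ T : Finset X', (∀ x, x ∉ T ↔ x ∈ ρ.smoothLocus) ∧
      (∀ x ∈ T, IsClosed ({x} : Set X')) ∧
      (∀ x ∈ T, VanCyc.milnor (ρ ≫ CohB1.ProjSpace.toSpec 1 k) ρ x = 1) ∧
      T.card = Nat.card {c : k // ¬ Transversal k (m + 1) 1 (secToSpec i {F + c • G})} := by
  classical
  have hpar' : (2 : k) ≠ 0 ∨ Even (m + 1) := by
    rcases hpar with h | h
    · exact Or.inr h
    · left
      intro h2
      apply h
      have h3 : ringChar k ∣ 2 := (ringChar.spec k 2).1 (by exact_mod_cast h2)
      rcases (Nat.dvd_prime Nat.prime_two).1 h3 with h4 | h4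
      · exact absurd h4 (CharP.ringChar_ne_one)
      · exact h4
  have hfl : Flat ρ := flat_rho_of_isLefschetzPencil hL hρ
  let Bad := {c : k // ¬ Transversal k (m + 1) 1 (secToSpec i {F + c • G})}
  have hfin : Finite Bad := hL.2.2.1
  have hB : ∀ c : Bad, ∃ y : Sec ρ ({lin 0 c.1} : Set (Form 1 k 1)),
      IsOrdQuadSing k m (secToSpec ρ ({lin 0 c.1} : Set (Form 1 k 1))) y ∧
      (∀ y', SmoothAt (secToSpec ρ ({lin 0 c.1} : Set (Form 1 k 1))) y' ↔ y' ≠ y) := by
    intro c
    obtain ⟨e, he⟩ := exists_iso hρ c.1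
    have he2 := toSpec_eq hρ c.1 e he
    obtain ⟨y, hy, hs⟩ := hL.2.2.2 (F + c.1 • G) (Or.inr ⟨c.1, rfl⟩) c.2
    have he3 : e.hom (e.inv y) = y := by
      rw [← Scheme.Hom.comp_apply, e.inv_hom_id]
      rfl
    refine ⟨e.inv y, OrdIso.isOrdQuadSing_of_iso m _ (secToSpec i {F + c.1 • G}) e he2 (e.inv y) ?_, fun y' => ?_⟩
    · rw [he3]
      exact hs
    · have h1 : SmoothAt (secToSpec ρ ({lin 0 c.1} : Set (Form 1 k 1))) y' ↔
          SmoothAt (secToSpec i {F + c.1 • G}) (e.hom y') := by
        have hp : LocallyOfFinitePresentation (secToSpec i {F + c.1 • G}) := by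
          have h5 := isPullback_sec ρ c.1
          have : LocallyOfFinitePresentation (secToSpec ρ ({lin 0 c.1} : Set (Form 1 k 1))) :=
            MorphismProperty.of_isPullback h5 inferInstance
          have h6 : secToSpec i {F + c.1 • G} = e.inv ≫ secToSpec ρ ({lin 0 c.1} : Set (Form 1 k 1)) := by
            rw [← he2, e.inv_hom_id_assoc]
          rw [h6]
          infer_instance
        have h2 := Scheme.Hom.preimage_smoothLocus_eq e.hom (secToSpec i {F + c.1 • G})
        have h3 : y' ∈ (e.hom ≫ secToSpec i {F + c.1 • G}).smoothLocus ↔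
            e.hom y' ∈ (secToSpec i {F + c.1 • G}).smoothLocus := by
          rw [← h2]
          rfl
        have h4 : y' ∈ (e.hom ≫ secToSpec i {F + c.1 • G}).smoothLocus ↔
            SmoothAt (e.hom ≫ secToSpec i {F + c.1 • G}) y' := Iff.rfl
        rw [← he2, ← h4, h3]
        rfl
      rw [h1]
      have h7 : SmoothAt (secToSpec i {F + c.1 • G}) (e.hom y') ↔ e.hom y' ∈ ({y}ᶜ : Set (Sec i {F + c.1 • G})) := by
        rw [← hy]
        rfl
      rw [h7, Set.mem_compl_iff, Set.mem_singleton_iff, not_iff_not]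
      constructor
      · rintro rfl
        rw [← Scheme.Hom.comp_apply, e.hom_inv_id]
        rfl
      · rintro rfl
        exact he3
  choose y hy1 hy2 using hB
  let q : Bad → X' := fun c => secι ρ ({lin 0 c.1} : Set (Form 1 k 1)) (y c)
  have hq1 : ∀ c, q c ∉ ρ.smoothLocus := by
    intro c
    rw [← mem_smoothLocus_iff (isPullback_sec ρ c.1), hy2]
    exact fun h => h rfl
  have hq2 : ∀ c, IsClosed ({q c} : Set X') := fun c =>
    Groth.Agent.Lefpen.H707.D2Converse.isClosed_secι_apply ρ _ (y c) (hy1 c).1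
  have hq3 : ∀ x : X', IsClosed ({x} : Set X') → x ∉ ρ.smoothLocus → ∃ c, q c = x := by
    intro x hx hxs
    have hρp : IsProper ρ := isProper_rho hρ
    have h4 : IsClosed ({ρ x} : Set (CohB1.ProjSpace 1 k)) := by
      have := ρ.isClosedMap _ hx
      rwa [Set.image_singleton] at this
    rcases Groth.Agent.Lefpen.H723.P1Closed.exists_mem_support (ρ x) h4 with ⟨c, hc⟩ | hc
    · rw [line_eq] at hc
      have h5 := isPullback_sec ρ c
      obtain ⟨z, rfl⟩ := (mem_range_iff h5 x).2 hc
      have h6 := hxs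
      rw [← mem_smoothLocus_iff h5] at h6
      have hc' : ¬ Transversal k (m + 1) 1 (secToSpec i {F + c • G}) := by
        intro hT
        apply h6
        obtain ⟨e, he⟩ := exists_iso hρ c
        have he2 := toSpec_eq hρ c e he
        rcases hT with ⟨-, h⟩ | ⟨-, h⟩
        · have h7 : Smooth (secToSpec i {F + c • G}) := SmoothOfRelativeDimension.smooth (m + 1 - 1) _
          have h8 : Smooth (secToSpec ρ ({lin 0 c} : Set (Form 1 k 1))) := by
            rw [← he2]
            infer_instance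
          have h9 : z ∈ (secToSpec ρ ({lin 0 c} : Set (Form 1 k 1))).smoothLocus := by
            rw [Scheme.Hom.smoothLocus_eq_top]
            trivial
          exact h9
        · exact (h.false (e.hom z)).elim
      refine ⟨⟨c, hc'⟩, ?_⟩
      have h7 := (not_congr (hy2 ⟨c, hc'⟩ z)).1 h6
      rw [not_not] at h7
      rw [h7]
    · exfalso
      rw [lineInf_eq] at hc
      obtain ⟨m', hm', h5⟩ := isPullback_lineInf hρ
      obtain ⟨z, rfl⟩ := (mem_range_iff h5 x).2 hc
      rw [← mem_smoothLocus_iff h5] at hxs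
      apply hxs
      rcases hG with ⟨-, h⟩ | ⟨-, h⟩
      · have h7 : Smooth (secToSpec i {G}) := SmoothOfRelativeDimension.smooth (m + 1 - 1) _
        have h9 : z ∈ (secToSpec i {G}).smoothLocus := by
          rw [Scheme.Hom.smoothLocus_eq_top]
          trivial
        exact h9
      · exact (h.false z).elim
  have hq4 : Function.Injective q := by
    intro c c' h
    apply Subtype.ext
    have h5 : ρ (q c) ∈ (hypIdeal (lin 0 c.1)).support :=
      (mem_range_iff (isPullback_sec ρ c.1) (q c)).1 ⟨_, rfl⟩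
    have h6 : ρ (q c') ∈ (hypIdeal (lin 0 c'.1)).support :=
      (mem_range_iff (isPullback_sec ρ c'.1) (q c')).1 ⟨_, rfl⟩
    rw [← h] at h6
    exact disjoint_support 0 _ h5 h6
  have hTfin : (Set.range q).Finite := Set.finite_range q
  refine ⟨hTfin.toFinset, ?_, ?_, ?_, ?_⟩
  · intro x
    rw [Set.Finite.mem_toFinset]
    constructor
    · intro hx
      by_contra hxs
      have hlft : LocallyOfFiniteType (ρ ≫ CohB1.ProjSpace.toSpec 1 k) := by
        have : Smooth (ρ ≫ CohB1.ProjSpace.toSpec 1 k) := SmoothOfRelativeDimension.smooth (m + 1) _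
        infer_instance
      have : JacobsonSpace X' := LocallyOfFiniteType.jacobsonSpace (ρ ≫ CohB1.ProjSpace.toSpec 1 k)
      have h1 : closure ((ρ.smoothLocus : Set X')ᶜ ∩ closedPoints X') = (ρ.smoothLocus : Set X')ᶜ :=
        closure_inter_closedPoints ρ.smoothLocus.isOpen.isClosed_compl
      have h2 : (ρ.smoothLocus : Set X')ᶜ ∩ closedPoints X' ⊆ Set.range q := by
        rintro z ⟨h3, h4⟩
        exact hq3 z h4 h3
      have h3 : IsClosed (Set.range q) := by
        rw [← Set.iUnion_singleton_eq_range]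
        exact isClosed_iUnion_of_finite hq2
      have h4 : x ∈ closure ((ρ.smoothLocus : Set X')ᶜ ∩ closedPoints X') := by
        rw [h1]
        exact hxs
      exact hx (closure_minimal h2 h3 h4)
    · rintro hx ⟨c, rfl⟩
      exact hq1 c hx
  · intro x hx
    rw [Set.Finite.mem_toFinset] at hx
    obtain ⟨c, rfl⟩ := hx
    exact hq2 c
  · intro x hx
    rw [Set.Finite.mem_toFinset] at hx
    obtain ⟨c, rfl⟩ := hx
    exact MilnorPt.milnor_eq_one ρ m hpar' 0 c.1 (y c) (hy1 c)
  · rw [← Set.ncard_eq_toFinset_card _ hTfin, ← Set.image_univ, Set.ncard_image_of_injective _ hq4,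
      Set.ncard_univ]

end Groth.Agent.Lefpen.H108.Crit
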