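import Groth.Agent.Lefpen.H707.Leading
import Groth.Agent.Lefpen.H707.NonSingIdeal
import Groth.Agent.Vancyc.H694.OrdNondeg

/-!
# The Hessian of a non-degenerate quadratic form

`isUnit_hess`: a quadratic polynomial without singular zeros off the origin has invertible Hessian if `2` is
invertible or the number of variables is even.
-/

set_option autoImplicit false
universe u

open MvPolynomial

namespace Groth.Agent.Lefpen.H108.Hess

open Groth.Agent.Lefpen.H707.Leading Groth.Agent.Lefpen.H707.NonSingIdeal

variable {k : Type u} [Field k] {n : ℕ}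

/-- Truncation of a table to its upper triangular part. -/
def upp (a : Fin n → Fin n → k) : Fin n → Fin n → k := fun i j => if i ≤ j then a i j else 0

theorem quad_upp_add (a b : Fin n → Fin n → k) : quad (upp (a + b)) = quad (upp a) + quad (upp b) := by
  simp only [quad, ← Finset.sum_add_distrib]
  refine Finset.sum_congr rfl fun i _ => Finset.sum_congr rfl fun j _ => ?_
  rw [← add_mul, ← C_add]
  congr 2
  simp only [upp, Pi.add_apply]
  split_ifs <;> simp

theorem exists_quad_monomial (e : Fin n →₀ ℕ) (he : e.degree = 2) (c : k) :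
    ∃ a : Fin n → Fin n → k, monomial e c = quad (upp a) := by
  classical
  have he0 : e ≠ 0 := by
    rintro rfl
    simp at he
  obtain ⟨l, hl⟩ := Finsupp.ne_iff.1 he0
  rw [Finsupp.coe_zero, Pi.zero_apply] at hl
  have h1 : Finsupp.single l 1 ≤ e := by
    rw [Finsupp.single_le_iff]
    omega
  obtain ⟨e', rfl⟩ := exists_add_of_le h1
  rw [map_add, Finsupp.degree_single] at he
  obtain ⟨m, rfl⟩ := Groth.Agent.Lefpen.H707.Regular.exists_eq_single e' (by omega)
  have key : ∀ p q : Fin n, p ≤ q → monomial (Finsupp.single p 1 + Finsupp.single q 1) c =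
      quad (upp fun i j => if i = p ∧ j = q then c else 0) := by
    intro p q hpq
    rw [quad, Finset.sum_eq_single p, Finset.sum_eq_single q]
    · simp only [upp, if_pos hpq, and_self, if_true]
      rw [show (monomial (Finsupp.single p 1 + Finsupp.single q 1)) c =
        C c * (monomial (Finsupp.single p 1) 1 * monomial (Finsupp.single q 1) 1) by
          rw [monomial_mul, C_mul_monomial, mul_one, mul_one]]
      rfl
    · intro j _ hj
      simp [upp, hj]
    · intro h; exact absurd (Finset.mem_univ _) h
    · intro i _ hi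
      refine Finset.sum_eq_zero fun j _ => ?_
      simp [upp, hi]
    · intro h; exact absurd (Finset.mem_univ _) h
  rcases le_total l m with h | h
  · exact ⟨_, key l m h⟩
  · exact ⟨_, by rw [add_comm]; exact key m l h⟩

theorem exists_quad {P : MvPolynomial (Fin n) k} (hP : P.IsHomogeneous 2) :
    ∃ a : Fin n → Fin n → k, P = quad (upp a) := by
  classical
  have h1 : ∀ s : Finset (Fin n →₀ ℕ), s ⊆ P.support →
      ∃ a : Fin n → Fin n → k, ∑ e ∈ s, monomial e (coeff e P) = quad (upp a) := by
    intro s
    induction s using Finset.induction_on with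
    | empty =>
      intro _
      refine ⟨0, ?_⟩
      simp [quad, upp]
    | insert e s hes ih =>
      intro hs
      obtain ⟨a, ha⟩ := ih (fun x hx => hs (Finset.mem_insert_of_mem hx))
      have h2 : e.degree = 2 := (hP.degree_eq_sum_deg_support (hs (Finset.mem_insert_self _ _))).symm
      obtain ⟨b, hb⟩ := exists_quad_monomial e h2 (coeff e P)
      refine ⟨b + a, ?_⟩
      rw [Finset.sum_insert hes, ha, hb, quad_upp_add]
  obtain ⟨a, ha⟩ := h1 P.support (le_refl _)
  exact ⟨a, by rw [← ha]; exact P.as_sum⟩

theorem eval_quad_upp (a : Fin n → Fin n → k) (v : Fin n → k) :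
    eval v (quad (upp a)) = VanCyc.quadEval a v := by
  simp only [quad, map_sum, VanCyc.quadEval]
  refine Finset.sum_congr rfl fun i _ => Finset.sum_congr rfl fun j _ => ?_
  simp only [upp, map_mul, eval_C, eval_X]
  split_ifs
  · ring
  · simp

theorem eval_pderiv_quad_upp (a : Fin n → Fin n → k) (v : Fin n → k) (l : Fin n) :
    eval v (pderiv l (quad (upp a))) = (VanCyc.polarMatrix a).mulVec v l := by
  rw [pderiv_quad, map_sum, Matrix.mulVec, dotProduct]
  refine Finset.sum_congr rfl fun j _ => ?_
  rw [Groth.Agent.Vancyc.H694.OrdNondeg.polarMatrix_eq, map_mul, eval_C, eval_X]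
  rfl

/-- The Hessian matrix of a table. -/
theorem isUnit_hess [IsAlgClosed k] {a : Fin n → Fin n → k} (h2 : (2 : k) ≠ 0 ∨ Even n)
    (h : NonSing (quad (upp a))) : IsUnit (Matrix.of fun i j => upp a i j + upp a j i : Matrix (Fin n) (Fin n) k) := by
  have h1 : VanCyc.QuadOrd a := by
    intro v hv hv'
    by_contra hne
    obtain ⟨l, hl⟩ := h v hne (by rw [eval_quad_upp, hv])
    exact hl (by rw [eval_pderiv_quad_upp, hv', Pi.zero_apply])
  have h3 := Groth.Agent.Vancyc.H694.OrdNondeg.quadNondeg_of_quadOrd h2 h1
  have h4 : (Matrix.of fun i j => upp a i j + upp a j i : Matrix (Fin n) (Fin n) k) = VanCyc.polarMatrix a := by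
    ext i j
    rw [Groth.Agent.Vancyc.H694.OrdNondeg.polarMatrix_eq]
    rfl
  rw [h4, Matrix.isUnit_iff_isUnit_det]
  exact h3

end Groth.Agent.Lefpen.H108.Hess
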