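import Groth.Prelude.Def_Milnor
import Groth.Prelude.Def_CohB1

/-!
# The mod `ℓ` Euler characteristic of the projective line
-/

set_option autoImplicit false
universe u

open CategoryTheory AlgebraicGeometry Limits

namespace Groth.Agent.Lefpen.H108.P1Euler

theorem hdim_of_equiv (ℓ : ℕ) (hℓ : ℓ.Prime) (X : Scheme.{u}) (q : ℕ)
    (h : Nonempty (EtCoh.H X (EtCoh.const X (ZMod ℓ)) q ≃+ ZMod ℓ)) : VanCyc.hdim ℓ X q = 1 := by
  obtain ⟨e⟩ := h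
  rw [VanCyc.hdim, Nat.card_congr e.toEquiv, Nat.card_zmod]
  have := Nat.log_pow hℓ.one_lt 1
  rwa [pow_one] at this

theorem euler_eq_two (ℓ : ℕ) (hℓ : ℓ.Prime) (X : Scheme.{u})
    (h0 : Nonempty (EtCoh.H X (EtCoh.const X (ZMod ℓ)) 0 ≃+ ZMod ℓ))
    (h1 : Subsingleton (EtCoh.H X (EtCoh.const X (ZMod ℓ)) 1))
    (h2 : Nonempty (EtCoh.H X (EtCoh.const X (ZMod ℓ)) 2 ≃+ ZMod ℓ)) : VanCyc.euler ℓ X 2 = 2 := by
  have e1 : VanCyc.hdim ℓ X 1 = 0 := by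
    rw [VanCyc.hdim, Nat.card_of_subsingleton (0 : EtCoh.H X (EtCoh.const X (ZMod ℓ)) 1), Nat.log_one_right]
  rw [VanCyc.euler, Finset.sum_range_succ, Finset.sum_range_succ, Finset.sum_range_succ, Finset.sum_range_zero,
    hdim_of_equiv ℓ hℓ X 0 h0, e1, hdim_of_equiv ℓ hℓ X 2 h2]
  norm_num

end Groth.Agent.Lefpen.H108.P1Euler
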