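import Groth.Agent.Lefpen.H108.Hess
import Mathlib.RingTheory.Smooth.Basic
import Mathlib.RingTheory.Kaehler.Basic
import Mathlib.RingTheory.Nakayama

/-!
# The Jacobian ideal of a function with non-degenerate second order part

`R` a noetherian local `k`-algebra, formally smooth over `k`, with residue field `k` and parameters `t`.
* `exists_derivation`: there are derivations `D_l` with `D_l t_j ≡ δ_{lj}`;
* `span_eq`: if `h ≡ ∑ b_ij t_i t_j` modulo `𝔪³` and the matrix `b_ij + b_ji` is invertible then the values `D h` generate `𝔪`.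
-/

set_option autoImplicit false
universe u

open IsLocalRing MvPolynomial

namespace Groth.Agent.Lefpen.H108.LocalJac

open Groth.Agent.Lefpen.H707.NonSingIdeal

variable {k R : Type u} [Field k] [CommRing R] [IsLocalRing R] [Algebra k R] {n : ℕ}

theorem exists_coef (hres : ∀ r : R, ∃ c : k, r - algebraMap k R c ∈ maximalIdeal R)
    (t : Fin n → R) (ht : Ideal.span (Set.range t) = maximalIdeal R) (r : R) :
    ∃ (c : k) (a : Fin n → k), r - algebraMap k R c - ∑ j, algebraMap k R (a j) * t j ∈ maximalIdeal R ^ 2 := by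
  obtain ⟨c, hc⟩ := hres r
  have htm : ∀ j, t j ∈ maximalIdeal R := fun j ↦ by rw [← ht]; exact Ideal.subset_span ⟨j, rfl⟩
  rw [← ht, Ideal.mem_span_range_iff_exists_fun] at hc
  obtain ⟨b, hb⟩ := hc
  choose a ha using fun j => hres (b j)
  refine ⟨c, a, ?_⟩
  rw [← hb, ← Finset.sum_sub_distrib]
  refine Ideal.sum_mem _ fun j _ => ?_
  rw [← sub_mul, pow_two]
  exact Ideal.mul_mem_mul (ha j) (htm j)

theorem coef_unique (t : Fin n → R) (ht : Ideal.span (Set.range t) = maximalIdeal R)
    (hlin : ∀ a : Fin n → k, ∑ i, algebraMap k R (a i) * t i ∈ maximalIdeal R ^ 2 → a = 0)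
    {r : R} {c c' : k} {a a' : Fin n → k}
    (h : r - algebraMap k R c - ∑ j, algebraMap k R (a j) * t j ∈ maximalIdeal R ^ 2)
    (h' : r - algebraMap k R c' - ∑ j, algebraMap k R (a' j) * t j ∈ maximalIdeal R ^ 2) : c = c' ∧ a = a' := by
  have htm : ∀ j, t j ∈ maximalIdeal R := fun j ↦ by rw [← ht]; exact Ideal.subset_span ⟨j, rfl⟩
  have h1 := sub_mem h' h
  have h2 : r - algebraMap k R c' - ∑ j, algebraMap k R (a' j) * t j -
      (r - algebraMap k R c - ∑ j, algebraMap k R (a j) * t j) =
      algebraMap k R (c - c') + ∑ j, algebraMap k R ((a - a') j) * t j := by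
    simp only [map_sub, Pi.sub_apply, sub_mul, Finset.sum_sub_distrib]
    ring
  rw [h2] at h1
  have h3 : algebraMap k R (c - c') ∈ maximalIdeal R := by
    have h4 : ∑ j, algebraMap k R ((a - a') j) * t j ∈ maximalIdeal R :=
      Ideal.sum_mem _ fun j _ => Ideal.mul_mem_left _ _ (htm j)
    have h5 := sub_mem (Ideal.pow_le_self two_ne_zero h1) h4
    rwa [add_sub_cancel_right] at h5
  have h4 : c - c' = 0 := by
    by_contra hne
    exact (mem_maximalIdeal _).1 h3 ((IsUnit.mk0 _ hne).map _)
  rw [h4, map_zero, zero_add] at h1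
  exact ⟨sub_eq_zero.1 h4, sub_eq_zero.1 (hlin _ h1)⟩

/-- The partial derivative at the closed point. -/
theorem exists_derivation_residue (hres : ∀ r : R, ∃ c : k, r - algebraMap k R c ∈ maximalIdeal R)
    (t : Fin n → R) (ht : Ideal.span (Set.range t) = maximalIdeal R)
    (hlin : ∀ a : Fin n → k, ∑ i, algebraMap k R (a i) * t i ∈ maximalIdeal R ^ 2 → a = 0) (l : Fin n) :
    ∃ D : Derivation k R (ResidueField R), ∀ j, D (t j) = if l = j then 1 else 0 := by
  classical
  choose c a h using exists_coef hres t ht
  have huniq : ∀ (r : R) (c' : k) (a' : Fin n → k),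
      r - algebraMap k R c' - ∑ j, algebraMap k R (a' j) * t j ∈ maximalIdeal R ^ 2 → c r = c' ∧ a r = a' :=
    fun r c' a' h' => coef_unique t ht hlin (h r) h'
  have htm : ∀ j, t j ∈ maximalIdeal R := fun j ↦ by rw [← ht]; exact Ideal.subset_span ⟨j, rfl⟩
  have hadd : ∀ r s, a (r + s) = a r + a s := fun r s =>
    (huniq (r + s) (c r + c s) (a r + a s) (by
      have h1 := add_mem (h r) (h s)
      convert h1 using 1
      simp only [map_add, Pi.add_apply, add_mul, Finset.sum_add_distrib]
      ring)).2
  have hsmul : ∀ (x : k) r, a (x • r) = x • a r := fun x r =>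
    (huniq (x • r) (x * c r) (x • a r) (by
      have h1 := Ideal.mul_mem_left _ (algebraMap k R x) (h r)
      convert h1 using 1
      simp only [Algebra.smul_def, Pi.smul_apply, Algebra.algebraMap_self, RingHom.id_apply, map_mul, mul_sub,
        Finset.mul_sum, mul_assoc])).2
  have hmul : ∀ r s, a (r * s) = c r • a s + c s • a r := fun r s =>
    (huniq (r * s) (c r * c s) (c r • a s + c s • a r) (by
      have hr := h r
      have hs := h s
      set u := ∑ j, algebraMap k R (a r j) * t j with hu
      set v := ∑ j, algebraMap k R (a s j) * t j with hv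
      have hum : u ∈ maximalIdeal R := Ideal.sum_mem _ fun j _ => Ideal.mul_mem_left _ _ (htm j)
      have hvm : v ∈ maximalIdeal R := Ideal.sum_mem _ fun j _ => Ideal.mul_mem_left _ _ (htm j)
      have e1 : ∑ j, algebraMap k R ((c r • a s + c s • a r) j) * t j =
          algebraMap k R (c r) * v + algebraMap k R (c s) * u := by
        simp only [hu, hv, Finset.mul_sum, ← Finset.sum_add_distrib, Pi.add_apply, Pi.smul_apply, smul_eq_mul,
          map_add, map_mul, add_mul, mul_assoc]
      rw [e1, map_mul]
      have e2 : r * s - algebraMap k R (c r) * algebraMap k R (c s) -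
          (algebraMap k R (c r) * v + algebraMap k R (c s) * u) =
          s * (r - algebraMap k R (c r) - u) + (algebraMap k R (c r)) * (s - algebraMap k R (c s) - v) +
            u * (s - algebraMap k R (c s) - v) + u * v := by ring
      rw [e2]
      refine add_mem (add_mem (add_mem (Ideal.mul_mem_left _ _ hr) (Ideal.mul_mem_left _ _ hs))
        (Ideal.mul_mem_left _ _ hs)) ?_
      rw [pow_two]
      exact Ideal.mul_mem_mul hum hvm)).2
  have hc : ∀ r, algebraMap k (ResidueField R) (c r) = residue R r := by
    intro r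
    have h1 : r - algebraMap k R (c r) ∈ maximalIdeal R := by
      have h4 : ∑ j, algebraMap k R (a r j) * t j ∈ maximalIdeal R :=
        Ideal.sum_mem _ fun j _ => Ideal.mul_mem_left _ _ (htm j)
      have h5 := add_mem (Ideal.pow_le_self two_ne_zero (h r)) h4
      rwa [sub_add_cancel] at h5
    rw [← residue_eq_zero_iff, map_sub, sub_eq_zero] at h1
    rw [h1]
    rfl
  refine ⟨Derivation.mk' { toFun := fun r => algebraMap k (ResidueField R) (a r l)
                           map_add' := fun r s => by rw [hadd, Pi.add_apply, map_add]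
                           map_smul' := fun x r => by
                            rw [hsmul, Pi.smul_apply, smul_eq_mul, map_mul, RingHom.id_apply, Algebra.smul_def] }
      (fun r s => ?_), fun j => ?_⟩
  · change algebraMap k (ResidueField R) (a (r * s) l) = r • algebraMap k (ResidueField R) (a s l) +
      s • algebraMap k (ResidueField R) (a r l)
    rw [hmul, Pi.add_apply, Pi.smul_apply, Pi.smul_apply, smul_eq_mul, smul_eq_mul, map_add, map_mul, map_mul, hc, hc,
      Algebra.smul_def, Algebra.smul_def]
    rfl
  · change algebraMap k (ResidueField R) (a (t j) l) = _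
    have h1 : a (t j) = Pi.single j 1 := (huniq (t j) 0 (Pi.single j 1) (by
      rw [map_zero, sub_zero, Finset.sum_eq_single j]
      · simp
      · intro i _ hi
        rw [Pi.single_eq_of_ne hi, map_zero, zero_mul]
      · intro h; exact absurd (Finset.mem_univ _) h)).2
    rw [h1]
    split_ifs with hl
    · subst hl
      rw [Pi.single_eq_same, map_one]
    · rw [Pi.single_eq_of_ne hl, map_zero]

theorem exists_derivation [Algebra.FormallySmooth k R]
    (hres : ∀ r : R, ∃ c : k, r - algebraMap k R c ∈ maximalIdeal R)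
    (t : Fin n → R) (ht : Ideal.span (Set.range t) = maximalIdeal R)
    (hlin : ∀ a : Fin n → k, ∑ i, algebraMap k R (a i) * t i ∈ maximalIdeal R ^ 2 → a = 0) (l : Fin n) :
    ∃ D : Derivation k R R, ∀ j, D (t j) - (if l = j then 1 else 0) ∈ maximalIdeal R := by
  obtain ⟨D₀, hD₀⟩ := exists_derivation_residue hres t ht hlin l
  have hproj : Module.Projective R (KaehlerDifferential k R) := Algebra.FormallySmooth.projective_kaehlerDifferential
  let π : R →ₗ[R] ResidueField R := Algebra.linearMap R (ResidueField R)
  have hπ : Function.Surjective π := residue_surjective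
  obtain ⟨g, hg⟩ := Module.projective_lifting_property π D₀.liftKaehlerDifferential hπ
  refine ⟨g.compDer (KaehlerDifferential.D k R), fun j => ?_⟩
  rw [← residue_eq_zero_iff, map_sub, sub_eq_zero]
  have h1 : π (g (KaehlerDifferential.D k R (t j))) = D₀ (t j) := by
    rw [← LinearMap.comp_apply, hg, Derivation.liftKaehlerDifferential_comp_D]
  change π (g (KaehlerDifferential.D k R (t j))) = _
  rw [h1, hD₀]
  split_ifs <;> simp

theorem der_mem_pow (I : Ideal R) (D : Derivation k R R) (N : ℕ) {a : R} (ha : a ∈ I ^ (N + 1)) : D a ∈ I ^ N := by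
  induction N generalizing a with
  | zero => simp
  | succ N ih =>
    rw [pow_succ] at ha
    refine Submodule.mul_induction_on ha ?_ ?_
    · intro x hx y hy
      rw [Derivation.leibniz, smul_eq_mul, smul_eq_mul]
      refine add_mem (Ideal.mul_mem_right _ _ hx) ?_
      rw [pow_succ, mul_comm y]
      exact Ideal.mul_mem_mul (ih hx) hy
    · intro x y hx hy
      rw [map_add]
      exact add_mem hx hy

theorem der_quad_sub_mem (t : Fin n → R) (ht : ∀ j, t j ∈ maximalIdeal R) (b : Fin n → Fin n → k)
    (D : Derivation k R R) (l : Fin n) (hD : ∀ j, D (t j) - (if l = j then 1 else 0) ∈ maximalIdeal R) :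
    D (aeval t (quad b)) - ∑ j, algebraMap k R (b l j + b j l) * t j ∈ maximalIdeal R ^ 2 := by
  classical
  have e1 : D (aeval t (quad b)) = ∑ i, ∑ j, algebraMap k R (b i j) * (t i * D (t j) + t j * D (t i)) := by
    rw [aeval_quad, map_sum]
    refine Finset.sum_congr rfl fun i _ => ?_
    rw [map_sum]
    refine Finset.sum_congr rfl fun j _ => ?_
    rw [Derivation.leibniz, Derivation.map_algebraMap, smul_zero, add_zero, Derivation.leibniz, smul_eq_mul,
      smul_eq_mul, smul_eq_mul]
  have e2 : ∑ j, algebraMap k R (b l j + b j l) * t j =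
      ∑ i, ∑ j, algebraMap k R (b i j) * (t i * (if l = j then 1 else 0) + t j * (if l = i then 1 else 0)) := by
    simp only [mul_add, Finset.sum_add_distrib, mul_ite, mul_one, mul_zero, Finset.sum_ite_eq, Finset.mem_univ,
      if_true]
    rw [Finset.sum_comm (f := fun i j => if l = i then algebraMap k R (b i j) * t j else 0)]
    simp only [Finset.sum_ite_eq, Finset.mem_univ, if_true, ← Finset.sum_add_distrib]
    refine Finset.sum_congr rfl fun j _ => ?_
    rw [map_add, add_mul, add_comm]
  rw [e1, e2, ← Finset.sum_sub_distrib]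
  refine Ideal.sum_mem _ fun i _ => ?_
  rw [← Finset.sum_sub_distrib]
  refine Ideal.sum_mem _ fun j _ => ?_
  rw [← mul_sub]
  refine Ideal.mul_mem_left _ _ ?_
  have e3 : t i * D (t j) + t j * D (t i) - (t i * (if l = j then 1 else 0) + t j * (if l = i then 1 else 0)) =
      t i * (D (t j) - (if l = j then 1 else 0)) + t j * (D (t i) - (if l = i then 1 else 0)) := by ring
  rw [e3, pow_two]
  exact add_mem (Ideal.mul_mem_mul (ht i) (hD j)) (Ideal.mul_mem_mul (ht j) (hD i))

theorem span_eq [IsNoetherianRing R] [Algebra.FormallySmooth k R]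
    (hres : ∀ r : R, ∃ c : k, r - algebraMap k R c ∈ maximalIdeal R)
    (t : Fin n → R) (ht : Ideal.span (Set.range t) = maximalIdeal R)
    (hlin : ∀ a : Fin n → k, ∑ i, algebraMap k R (a i) * t i ∈ maximalIdeal R ^ 2 → a = 0)
    (h : R) (b : Fin n → Fin n → k) (hh : h - aeval t (quad b) ∈ maximalIdeal R ^ 3)
    (hB : IsUnit (Matrix.of fun i j => b i j + b j i : Matrix (Fin n) (Fin n) k)) :
    Ideal.span {x : R | ∃ D : Derivation k R R, x = D h} = maximalIdeal R := by
  classical
  have htm : ∀ j, t j ∈ maximalIdeal R := fun j ↦ by rw [← ht]; exact Ideal.subset_span ⟨j, rfl⟩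
  have hm2 : h ∈ maximalIdeal R ^ 2 := by
    have h1 : aeval t (quad b) ∈ maximalIdeal R ^ 2 := by
      rw [aeval_quad]
      refine Ideal.sum_mem _ fun i _ => Ideal.sum_mem _ fun j _ => Ideal.mul_mem_left _ _ ?_
      rw [pow_two]
      exact Ideal.mul_mem_mul (htm i) (htm j)
    have h2 := add_mem (Ideal.pow_le_pow_right (show 2 ≤ 3 by norm_num) hh) h1
    rwa [sub_add_cancel] at h2
  set J := Ideal.span {x : R | ∃ D : Derivation k R R, x = D h} with hJ
  apply le_antisymm
  · rw [hJ, Ideal.span_le]
    rintro _ ⟨D, rfl⟩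
    have := der_mem_pow (maximalIdeal R) D 1 hm2
    rwa [pow_one] at this
  · -- Nakayama
    choose D hD using exists_derivation hres t ht hlin
    have h1 : ∀ l, ∑ j, algebraMap k R (b l j + b j l) * t j ∈ J ⊔ maximalIdeal R ^ 2 := by
      intro l
      have h2 := der_quad_sub_mem t htm b (D l) l (hD l)
      have h3 : D l h - D l (aeval t (quad b)) ∈ maximalIdeal R ^ 2 := by
        rw [← map_sub]
        exact der_mem_pow _ _ 2 hh
      have h4 : ∑ j, algebraMap k R (b l j + b j l) * t j = D l h +
          -((D l h - D l (aeval t (quad b))) +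
            (D l (aeval t (quad b)) - ∑ j, algebraMap k R (b l j + b j l) * t j)) := by ring
      rw [h4]
      exact Submodule.add_mem_sup (Ideal.subset_span ⟨D l, rfl⟩) (neg_mem (add_mem h3 h2))
    obtain ⟨M, hM⟩ := hB.exists_left_inv
    have h5 : ∀ i, t i ∈ J ⊔ maximalIdeal R ^ 2 := by
      intro i
      have h6 : t i = ∑ l, algebraMap k R (M i l) * ∑ j, algebraMap k R (b l j + b j l) * t j := by
        have h7 : ∀ j, ∑ l, M i l * (b l j + b j l) = if i = j then 1 else 0 := by
          intro j
          have h8 := congrFun (congrFun hM i) j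
          rw [Matrix.mul_apply, Matrix.one_apply] at h8
          exact h8
        simp only [Finset.mul_sum, ← mul_assoc, ← map_mul]
        rw [Finset.sum_comm]
        simp only [← Finset.sum_mul, ← map_sum, h7]
        rw [Finset.sum_eq_single i]
        · simp
        · intro j _ hj
          rw [if_neg (Ne.symm hj), map_zero, zero_mul]
        · intro h; exact absurd (Finset.mem_univ _) h
      rw [h6]
      exact Ideal.sum_mem _ fun l _ => Ideal.mul_mem_left _ _ (h1 l)
    have h6 : maximalIdeal R ≤ J ⊔ maximalIdeal R • maximalIdeal R := by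
      conv_lhs => rw [← ht]
      rw [Ideal.span_le]
      rintro _ ⟨i, rfl⟩
      have := h5 i
      rwa [pow_two] at this
    exact Submodule.le_of_le_smul_of_le_jacobson_bot (IsNoetherian.noetherian _)
      (IsLocalRing.maximalIdeal_le_jacobson _) h6

end Groth.Agent.Lefpen.H108.LocalJac
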