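import Groth.Agent.Lefpen.H108.LocalJac
import Groth.Prelude.Def_Milnor

/-!
# The Milnor number of a function with non-degenerate second order part is one
-/

set_option autoImplicit false
universe u

open CategoryTheory AlgebraicGeometry Limits TopologicalSpace Opposite

namespace Groth.Agent.Lefpen.H108.MilnorLoc

open IsLocalRing Groth.Agent.Lefpen.H707.NonSingIdeal

section Local

variable {k O : Type u} [Field k] [CommRing O] [IsLocalRing O] [Algebra k O]

theorem finrank_quot_eq_one (hres : ∀ r : O, ∃ c : k, r - algebraMap k O c ∈ maximalIdeal O) :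
    Module.finrank k (O ⧸ maximalIdeal O) = 1 := by
  have hinj : Function.Injective (Algebra.linearMap k (O ⧸ maximalIdeal O)) := by
    rw [Algebra.coe_linearMap]
    exact (algebraMap k (O ⧸ maximalIdeal O)).injective
  have hsurj : Function.Surjective (Algebra.linearMap k (O ⧸ maximalIdeal O)) := by
    intro y
    obtain ⟨r, rfl⟩ := Ideal.Quotient.mk_surjective y
    obtain ⟨c, hc⟩ := hres r
    refine ⟨c, ?_⟩
    have h1 : Ideal.Quotient.mk (maximalIdeal O) r = Ideal.Quotient.mk (maximalIdeal O) (algebraMap k O c) := by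
      rw [Ideal.Quotient.eq]
      exact hc
    rw [h1]
    rfl
  rw [← (LinearEquiv.ofBijective _ ⟨hinj, hsurj⟩).finrank_eq, Module.finrank_self]

end Local

variable {k : Type u} [Field k] {X S : Scheme.{u}} (p : X ⟶ Spec (CommRingCat.of k)) (f : X ⟶ S) (x : X)

theorem jacIdeal_eq (τ : S.presheaf.stalk (f x))
    (hτ : maximalIdeal (S.presheaf.stalk (f x)) = Ideal.span {τ})
    (h2 : (f.stalkMap x).hom τ ∈ maximalIdeal (X.presheaf.stalk x) ^ 2)
    (hJ : letI := VanCyc.stalkAlgebra p x
      Ideal.span {b : X.presheaf.stalk x | ∃ D : Derivation k (X.presheaf.stalk x) (X.presheaf.stalk x),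
        b = D ((f.stalkMap x).hom τ)} = maximalIdeal (X.presheaf.stalk x)) :
    VanCyc.jacIdeal p f x = maximalIdeal (X.presheaf.stalk x) := by
  letI := VanCyc.stalkAlgebra p x
  apply le_antisymm
  · rw [VanCyc.jacIdeal, Ideal.span_le]
    rintro _ ⟨D, a, ha, rfl⟩
    have ha' : a ∈ maximalIdeal (S.presheaf.stalk (f x)) := ha
    rw [hτ, Ideal.mem_span_singleton'] at ha'
    obtain ⟨b, rfl⟩ := ha'
    have h3 : (f.stalkMap x).hom (b * τ) = (f.stalkMap x).hom b * (f.stalkMap x).hom τ := map_mul _ _ _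
    change D ((f.stalkMap x).hom (b * τ)) ∈ maximalIdeal (X.presheaf.stalk x)
    rw [h3, Derivation.leibniz, smul_eq_mul, smul_eq_mul]
    have h4 := LocalJac.der_mem_pow (maximalIdeal (X.presheaf.stalk x)) D 1 h2
    rw [pow_one] at h4
    exact add_mem (Ideal.mul_mem_left _ _ h4) (Ideal.mul_mem_right _ _ (Ideal.pow_le_self two_ne_zero h2))
  · rw [← hJ, Ideal.span_le]
    rintro _ ⟨D, rfl⟩
    refine Ideal.subset_span ⟨D, τ, ?_, rfl⟩
    change τ ∈ maximalIdeal (S.presheaf.stalk (f x))
    rw [hτ]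
    exact Ideal.mem_span_singleton_self τ

theorem milnor_eq_one (hres : ∀ r : X.presheaf.stalk x, ∃ c : k,
      r - (letI := VanCyc.stalkAlgebra p x; algebraMap k (X.presheaf.stalk x) c) ∈ maximalIdeal (X.presheaf.stalk x))
    (τ : S.presheaf.stalk (f x))
    (hτ : maximalIdeal (S.presheaf.stalk (f x)) = Ideal.span {τ})
    (h2 : (f.stalkMap x).hom τ ∈ maximalIdeal (X.presheaf.stalk x) ^ 2)
    (hJ : letI := VanCyc.stalkAlgebra p x
      Ideal.span {b : X.presheaf.stalk x | ∃ D : Derivation k (X.presheaf.stalk x) (X.presheaf.stalk x),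
        b = D ((f.stalkMap x).hom τ)} = maximalIdeal (X.presheaf.stalk x)) :
    VanCyc.milnor p f x = 1 := by
  letI := VanCyc.stalkAlgebra p x
  rw [VanCyc.milnor, jacIdeal_eq p f x τ hτ h2 hJ]
  exact finrank_quot_eq_one hres

/-- The full criterion. -/
theorem milnor_eq_one_of_hess [IsNoetherianRing (X.presheaf.stalk x)]
    (hfs : letI := VanCyc.stalkAlgebra p x; Algebra.FormallySmooth k (X.presheaf.stalk x))
    (hres : ∀ r : X.presheaf.stalk x, ∃ c : k,
      r - (letI := VanCyc.stalkAlgebra p x; algebraMap k (X.presheaf.stalk x) c) ∈ maximalIdeal (X.presheaf.stalk x))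
    (τ : S.presheaf.stalk (f x))
    (hτ : maximalIdeal (S.presheaf.stalk (f x)) = Ideal.span {τ}) {n : ℕ} (t : Fin n → X.presheaf.stalk x)
    (ht : Ideal.span (Set.range t) = maximalIdeal (X.presheaf.stalk x))
    (hlin : ∀ a : Fin n → k, ∑ i, (letI := VanCyc.stalkAlgebra p x; algebraMap k (X.presheaf.stalk x) (a i)) * t i ∈
      maximalIdeal (X.presheaf.stalk x) ^ 2 → a = 0)
    (b : Fin n → Fin n → k)
    (hh : (f.stalkMap x).hom τ - (letI := VanCyc.stalkAlgebra p x; MvPolynomial.aeval t (quad b)) ∈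
      maximalIdeal (X.presheaf.stalk x) ^ 3)
    (hB : IsUnit (Matrix.of fun i j => b i j + b j i : Matrix (Fin n) (Fin n) k)) :
    VanCyc.milnor p f x = 1 := by
  letI := VanCyc.stalkAlgebra p x
  haveI := hfs
  have htm : ∀ j, t j ∈ maximalIdeal (X.presheaf.stalk x) := fun j ↦ by
    rw [← ht]; exact Ideal.subset_span ⟨j, rfl⟩
  have h2 : (f.stalkMap x).hom τ ∈ maximalIdeal (X.presheaf.stalk x) ^ 2 := by
    have h1 : MvPolynomial.aeval t (quad b) ∈ maximalIdeal (X.presheaf.stalk x) ^ 2 := by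
      rw [aeval_quad]
      refine Ideal.sum_mem _ fun i _ => Ideal.sum_mem _ fun j _ => Ideal.mul_mem_left _ _ ?_
      rw [pow_two]
      exact Ideal.mul_mem_mul (htm i) (htm j)
    have h2 := add_mem (Ideal.pow_le_pow_right (show 2 ≤ 3 by norm_num) hh) h1
    rwa [sub_add_cancel] at h2
  exact milnor_eq_one p f x hres τ hτ h2
    (LocalJac.span_eq hres t ht hlin ((f.stalkMap x).hom τ) b hh hB)

end Groth.Agent.Lefpen.H108.MilnorLoc
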