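import Groth.Agent.Lefpen.H108.MilnorLoc
import Groth.Agent.Lefpen.H707.D2Converse
import Groth.Agent.Lefpen.H723.PencilSmooth
import Groth.Prelude.Def_Milnor

/-!
# The Milnor number at an ordinary quadratic point of a fibre of a morphism to the line

`milnor_eq_one`: `ρ : X' ⟶ P^1_k`, `X'` smooth of relative dimension `m + 1` over the algebraically closed field `k`, `y` an
ordinary quadratic singularity of the fibre of `ρ` over a rational point: the Milnor number of `ρ` at `y` is one if `2`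
is invertible in `k` or `m + 1` is even.
-/

set_option autoImplicit false
universe u

open CategoryTheory AlgebraicGeometry Limits TopologicalSpace Opposite

namespace Groth.Agent.Lefpen.H108.MilnorPt

open LefPen IsLocalRing Groth.Agent.Lefpen.H705.ClosedPoint Groth.Agent.Lefpen.H705.SecIdeal
open Groth.Agent.Lefpen.H705.HypIdeal Groth.Agent.Divis.CartierBasic Groth.Agent.Divis.CartierStalk
open Groth.Agent.Lefpen.H723.P1Pt Groth.Agent.Lefpen.H707.Leading Groth.Agent.Lefpen.H707.D2Converse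
open Groth.Agent.Lefpen.H707.NonSingIdeal

variable {k : Type u} [Field k]

/-- The local ring of `Spec k` is a field. -/
theorem isField_stalk (a : Spec (CommRingCat.of k)) : IsField ((Spec (CommRingCat.of k)).presheaf.stalk a) := by
  let e := (StructureSheaf.stalkIso k a).toRingEquiv
  have h2 : (PrimeSpectrum.asIdeal a).primeCompl ≤ IsUnit.submonoid k := by
    intro x hx
    have hx0 : x ≠ 0 := by
      rintro rfl
      exact hx (Ideal.zero_mem _)
    exact IsUnit.mk0 x hx0
  let e2 := IsLocalization.atUnits k (PrimeSpectrum.asIdeal a).primeCompl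
    (S := Localization.AtPrime (PrimeSpectrum.asIdeal a)) h2
  exact (e.symm.toMulEquiv.trans e2.symm.toRingEquiv.toMulEquiv).isField (Field.toIsField k)

theorem secIdeal_id {r d : ℕ} (G : Form r k d) :
    secIdeal (𝟙 (CohB1.ProjSpace r k)) ({G} : Set (Form r k d)) = hypIdeal G := by
  rw [secIdeal, iSup_singleton, Scheme.IdealSheafData.comap_id]

/-- The germ of the dehomogenised form generates the maximal ideal of the local ring of the line. -/
theorem maximalIdeal_eq_span (j : Fin (1 + 1)) (c : k) (p : CohB1.ProjSpace 1 k)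
    (hp : p ∈ (hypIdeal (lin j c)).support) (hj : p ∈ LefPen.chart 1 k j) :
    maximalIdeal ((CohB1.ProjSpace 1 k).presheaf.stalk p) =
      Ideal.span {(CohB1.ProjSpace 1 k).presheaf.germ (LefPen.chart 1 k j) p hj (LefPen.dehom (lin j c) j)} := by
  have h1 : p ∈ Set.range (pt j c) := by
    rw [Groth.Agent.Lefpen.H723.PencilSmooth.range_pt]
    exact hp
  obtain ⟨a, rfl⟩ := h1
  have h2 : RingHom.ker ((pt j c).stalkMap a).hom = maximalIdeal _ := by
    let : Field ((Spec (CommRingCat.of k)).presheaf.stalk a) := (isField_stalk a).toField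
    exact IsLocalRing.ker_eq_maximalIdeal _ ((pt j c).stalkMap_surjective a)
  rw [← h2, ker_stalkMap, ker_pt, ← secIdeal_id, stalkIdeal_secIdeal (𝟙 _) _ j (pt j c a) hj, Set.image_singleton]
  congr 2
  rw [stalkEqn, Scheme.Hom.stalkMap_id]
  rfl

variable [IsAlgClosed k] {X' : Scheme.{u}} (ρ : X' ⟶ CohB1.ProjSpace 1 k)

/-- The Milnor number of `ρ` at an ordinary quadratic singularity of a fibre is one. -/
theorem milnor_eq_one (m : ℕ) [SmoothOfRelativeDimension (m + 1) (ρ ≫ CohB1.ProjSpace.toSpec 1 k)]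
    (hpar : (2 : k) ≠ 0 ∨ Even (m + 1)) (j : Fin (1 + 1)) (c : k) (y : Sec ρ ({lin j c} : Set (Form 1 k 1)))
    (hs : IsOrdQuadSing k m (secToSpec ρ ({lin j c} : Set (Form 1 k 1))) y) :
    VanCyc.milnor (ρ ≫ CohB1.ProjSpace.toSpec 1 k) ρ (secι ρ ({lin j c} : Set (Form 1 k 1)) y) = 1 := by
  have hsm : Smooth (ρ ≫ CohB1.ProjSpace.toSpec 1 k) := SmoothOfRelativeDimension.smooth (m + 1) _
  have hlft : LocallyOfFiniteType (ρ ≫ CohB1.ProjSpace.toSpec 1 k) := inferInstance
  obtain ⟨hcl, -⟩ := id hs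
  have hclx : IsClosed ({secι ρ ({lin j c} : Set (Form 1 k 1)) y} : Set X') := isClosed_secι_apply ρ _ y hcl
  have hsupp : ρ (secι ρ ({lin j c} : Set (Form 1 k 1)) y) ∈ (hypIdeal (lin j c)).support := by
    have h1 := subschemeι_mem_support (secIdeal ρ ({lin j c} : Set (Form 1 k 1))) y
    have h2 : secIdeal ρ ({lin j c} : Set (Form 1 k 1)) = (hypIdeal (lin j c)).comap ρ := by
      rw [secIdeal, iSup_singleton]
    have h3 : secι ρ ({lin j c} : Set (Form 1 k 1)) y ∈ ((hypIdeal (lin j c)).comap ρ).support := by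
      rw [← h2]
      exact h1
    rw [Scheme.IdealSheafData.support_comap] at h3
    exact h3
  have hj : ρ (secι ρ ({lin j c} : Set (Form 1 k 1)) y) ∈ LefPen.chart 1 k j := mem_chart_of_mem_support j c _ hsupp
  have hreg := isRegularLocalRing_stalk (ρ ≫ CohB1.ProjSpace.toSpec 1 k) (secι ρ ({lin j c} : Set (Form 1 k 1)) y)
  obtain ⟨t, ht⟩ : ∃ t : Fin (m + 1) → X'.presheaf.stalk (secι ρ ({lin j c} : Set (Form 1 k 1)) y),
      Ideal.span (Set.range t) = maximalIdeal _ := by
    obtain ⟨σ, hσ⟩ := exists_subfamily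
      (Subtype.val : maximalIdeal (X'.presheaf.stalk (secι ρ ({lin j c} : Set (Form 1 k 1)) y)) → _)
      (by
        rw [Subtype.range_coe]
        exact Ideal.span_eq _) (m + 1)
      (finrank_cotangentSpace_stalk (ρ ≫ CohB1.ProjSpace.toSpec 1 k) (m + 1) _ hclx)
    exact ⟨_, hσ⟩
  obtain ⟨h1, ⟨P, hP, hPh⟩, h3⟩ := nonSing_of_isOrdQuadSing ρ m (lin j c) y hs j hj t ht
  obtain ⟨-, hns⟩ := h3 P hP hPh
  obtain ⟨a, rfl⟩ := Hess.exists_quad hP
  refine MilnorLoc.milnor_eq_one_of_hess (ρ ≫ CohB1.ProjSpace.toSpec 1 k) ρ (secι ρ ({lin j c} : Set (Form 1 k 1)) y)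
    (formallySmooth (ρ ≫ CohB1.ProjSpace.toSpec 1 k) (m + 1) _ hclx)
    (exists_sub_toStalk_mem (ρ ≫ CohB1.ProjSpace.toSpec 1 k) _ hclx)
    ((CohB1.ProjSpace 1 k).presheaf.germ (LefPen.chart 1 k j) _ hj (LefPen.dehom (lin j c) j))
    (maximalIdeal_eq_span j c _ hsupp hj) t ht
    (lin_of_span (toStalk k (ρ ≫ CohB1.ProjSpace.toSpec 1 k) _)
      (finrank_cotangentSpace_stalk (ρ ≫ CohB1.ProjSpace.toSpec 1 k) (m + 1) _ hclx) t ht)
    (Hess.upp a) hPh (Hess.isUnit_hess hpar hns)

end Groth.Agent.Lefpen.H108.MilnorPt
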